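import Groth.Agent.GrLib8.PieceProp
import Groth.Agent.GrLib8.RegRes
import Mathlib.RingTheory.Length

/-!
# The Grothendieck–Serre formula for modules with pieces of finite length (degree zero arbitrary)
-/

set_option autoImplicit false
set_option linter.unusedSectionVars false

universe u

open DirectSum

namespace Groth.Agent.H1SerreFin

open GrLib8

section LinAlg

variable {S : Type u} [CommRing S]

/-- The length as a natural number. -/
noncomputable def lenN (A : Type u) [AddCommGroup A] [Module S A] : ℕ := (Module.length S A).toNat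

theorem lenN_congr {A B : Type u} [AddCommGroup A] [Module S A] [AddCommGroup B] [Module S B] (e : A ≃ₗ[S] B) :
    lenN (S := S) A = lenN (S := S) B := by rw [lenN, lenN, e.length_eq]

theorem lenN_of_subsingleton (A : Type u) [AddCommGroup A] [Module S A] [Subsingleton A] : lenN (S := S) A = 0 := by
  rw [lenN, Module.length_eq_zero_iff.2 ‹_›]; rfl

theorem ne_top_of_injective {A B : Type u} [AddCommGroup A] [Module S A] [AddCommGroup B] [Module S B]
    (f : A →ₗ[S] B) (hf : Function.Injective f) (h : Module.length S B ≠ ⊤) : Module.length S A ≠ ⊤ :=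
  ne_top_of_le_ne_top h (Module.length_le_of_injective f hf)

theorem ne_top_of_surjective {A B : Type u} [AddCommGroup A] [Module S A] [AddCommGroup B] [Module S B]
    (f : A →ₗ[S] B) (hf : Function.Surjective f) (h : Module.length S A ≠ ⊤) : Module.length S B ≠ ⊤ :=
  ne_top_of_le_ne_top h (Module.length_le_of_surjective f hf)

theorem length_of_exact {A B C : Type u} [AddCommGroup A] [Module S A] [AddCommGroup B] [Module S B] [AddCommGroup C]
    [Module S C] (f : A →ₗ[S] B) (g : B →ₗ[S] C) (h : Function.Exact f g) :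
    Module.length S B = Module.length S (LinearMap.range f) + Module.length S (LinearMap.range g) := by
  have he : Function.Exact (LinearMap.range f).subtype g.rangeRestrict := fun b =>
    ⟨fun hb => ⟨⟨b, (h b).1 (congrArg Subtype.val hb)⟩, rfl⟩, fun ⟨a, ha⟩ => Subtype.ext ((h b).2 (ha ▸ a.2))⟩
  exact Module.length_eq_add_of_exact _ _ Subtype.val_injective g.surjective_rangeRestrict he

theorem ne_top_of_exact {A B C : Type u} [AddCommGroup A] [Module S A] [AddCommGroup B] [Module S B] [AddCommGroup C]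
    [Module S C] (f : A →ₗ[S] B) (g : B →ₗ[S] C) (h : Function.Exact f g)
    (hA : Module.length S A ≠ ⊤) (hC : Module.length S C ≠ ⊤) : Module.length S B ≠ ⊤ := by
  rw [length_of_exact f g h]
  exact WithTop.add_ne_top.2 ⟨ne_top_of_surjective _ f.surjective_rangeRestrict hA,
    ne_top_of_injective _ (LinearMap.range g).injective_subtype hC⟩

theorem lenN_of_exact {A B C : Type u} [AddCommGroup A] [Module S A] [AddCommGroup B] [Module S B] [AddCommGroup C]
    [Module S C] (f : A →ₗ[S] B) (g : B →ₗ[S] C) (h : Function.Exact f g) (hB : Module.length S B ≠ ⊤) :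
    lenN (S := S) B = lenN (S := S) (LinearMap.range f) + lenN (S := S) (LinearMap.range g) := by
  rw [length_of_exact f g h] at hB
  rw [lenN, length_of_exact f g h, ENat.toNat_add (WithTop.add_ne_top.1 hB).1 (WithTop.add_ne_top.1 hB).2]
  rfl

end LinAlg

variable {R : Type u} [CommRing R] [IsNoetherianRing R] {σ : Type u} [SetLike σ R] [AddSubgroupClass σ R]
  {𝒜 : ℤ → σ} [GradedRing 𝒜] {a : HomogeneousIdeal 𝒜}
  (hpos : ∀ n < 0, ∀ r ∈ 𝒜 n, r = 0) (ha : (GrSyz.irrel 𝒜).toIdeal ≤ a.toIdeal)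
  (hak : ∃ k, a.toIdeal ^ k ≤ (GrSyz.irrel 𝒜).toIdeal)

/-- A homogeneous map on pieces, linear over degree zero. -/
def compMap {X Y : GrLC.GMod.{u} 𝒜} (f : X.carrier →ₗ[R] Y.carrier) {d : ℤ} (hf : GrLC.IsGrHomDeg X.gr Y.gr f d)
    {g g' : ℤ} (h : g + d = g') : GrLC.comp 𝒜 X.gr g →ₗ[GrLC.deg0 𝒜] GrLC.comp 𝒜 Y.gr g' :=
  (f.restrictScalars (GrLC.deg0 𝒜)).restrict fun x hx => h ▸ hf g x hx

theorem compMap_injective {X Y : GrLC.GMod.{u} 𝒜} (f : X.carrier →ₗ[R] Y.carrier) {d : ℤ}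
    (hf : GrLC.IsGrHomDeg X.gr Y.gr f d) (hinj : Function.Injective f) {g g' : ℤ} (h : g + d = g') :
    Function.Injective (compMap f hf h) := fun x y he => Subtype.ext (hinj (congrArg Subtype.val he :))

theorem compMap_surjective {X Y : GrLC.GMod.{u} 𝒜} (f : X.carrier →ₗ[R] Y.carrier) {d : ℤ}
    (hf : GrLC.IsGrHomDeg X.gr Y.gr f d) (hsurj : Function.Surjective f) {g g' : ℤ} (h : g + d = g') :
    Function.Surjective (compMap f hf h) := fun y => by
  obtain ⟨x, hx, hxy⟩ := exists_preimage_mem f hf (show (y : Y.carrier) ∈ Y.gr g' from y.2) (hsurj _)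
  rw [show g' - d = g by omega] at hx
  exact ⟨⟨x, hx⟩, Subtype.ext hxy⟩

/-- All pieces have finite length over the degree-zero ring. -/
def Good (X : GrLC.GMod.{u} 𝒜) : Prop := ∀ g : ℤ, Module.length (GrLC.deg0 𝒜) (GrLC.comp 𝒜 X.gr g) ≠ ⊤

theorem good_of_injective {X Y : GrLC.GMod.{u} 𝒜} (f : X.carrier →ₗ[R] Y.carrier) {d : ℤ}
    (hf : GrLC.IsGrHomDeg X.gr Y.gr f d) (hinj : Function.Injective f) (hY : Good Y) : Good X := fun g =>
  ne_top_of_injective _ (compMap_injective f hf hinj (rfl : g + d = g + d)) (hY _)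

theorem good_of_surjective {X Y : GrLC.GMod.{u} 𝒜} (f : X.carrier →ₗ[R] Y.carrier) {d : ℤ}
    (hf : GrLC.IsGrHomDeg X.gr Y.gr f d) (hsurj : Function.Surjective f) (hX : Good X) : Good Y := fun g =>
  ne_top_of_surjective _ (compMap_surjective f hf hsurj (sub_add_cancel g d)) (hX _)

/-- The length of a piece is finite. -/
def FinLen : ∀ (A : Type u) [AddCommGroup A] [Module (GrLC.deg0 𝒜) A], Prop :=
  fun A _ _ => Module.length (GrLC.deg0 𝒜) A ≠ ⊤

theorem midClosed_finLen : MidClosed (FinLen (𝒜 := 𝒜)) :=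
  ⟨fun _ _ _ _ _ _ _ _ _ f g hex hA hC => ne_top_of_exact f g hex hA hC,
    fun A _ _ h => by rw [FinLen, Module.length_eq_zero_iff.2 h]; exact ENat.zero_ne_top⟩

include hpos ha hak in
/-- Pieces of cohomology of good finite modules have finite length. -/
theorem finLen_piece : ∀ (i : ℕ) (X : GrLC.GMod.{u} 𝒜) [Module.Finite R X.carrier], Good X →
    ∀ g : ℤ, HP a (FinLen (𝒜 := 𝒜)) X i g
  | 0 => fun X _ hX g F => by
    obtain ⟨ι₀, hι, -⟩ := exists_H0_piece (a := a) F g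
    exact ne_top_of_injective ι₀ hι (hX g)
  | i + 1 => fun X _ hX g => by
    obtain ⟨T, Q, j, p, _, _, hT, hQ, hj, hp, hji, hps, hjp, -⟩ := exists_tors_seq (GrSyz.irrel 𝒜) X
    refine hp_middle midClosed_finLen hj hp hji hps hjp
      (hp_of_hVan midClosed_finLen (hVan_of_torsion (fun m => ?_) i _)) ?_
    · obtain ⟨k, hk⟩ := hT m
      obtain ⟨l, hl⟩ := hak
      exact ⟨l * k, fun r hr => hk r (Ideal.pow_right_mono hl k (pow_mul a.toIdeal l k ▸ hr))⟩
    obtain ⟨e, he, x, hx, hxi, hreg⟩ := exists_regular_pos 𝒜 hpos hQ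
    obtain ⟨Y, π, _, hμ, hπg, hinj, hπ, hex, -⟩ := exists_regular_seq hx hreg
    obtain ⟨c, hc⟩ := exists_hVan hpos ha (i + 1) Q
    exact hp_of_regular midClosed_finLen he π hμ hπg hinj hπ hex i
      (fun g => finLen_piece i Y (good_of_surjective π hπg hπ (good_of_surjective p hp hps hX)) g) c hc g

variable (a) in
/-- Length of a piece of cohomology. -/
noncomputable def lenH (X : GrLC.GMod.{u} 𝒜) (i : ℕ) (g : ℤ) : ℕ :=
  lenN (S := GrLC.deg0 𝒜) ((starRes X.gr).Hcomp a i g)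

variable (a) in
/-- The alternating sum of the lengths of the pieces. -/
noncomputable def eulerH (N : ℕ) (X : GrLC.GMod.{u} 𝒜) (g : ℤ) : ℤ :=
  ∑ i ∈ Finset.range (N + 1), (-1 : ℤ) ^ i * (lenH a X i g : ℤ)

theorem lenH_eq_zero {X : GrLC.GMod.{u} 𝒜} {i : ℕ} {g : ℤ} (h : HVan a X i g) : lenH a X i g = 0 := by
  haveI := Submodule.subsingleton_iff_eq_bot.2 (h (starRes X.gr))
  exact lenN_of_subsingleton _

include hpos ha hak

/-- Additivity along short exact sequences. -/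
theorem eulerH_add {X Y Z : GrLC.GMod.{u} 𝒜} {f : X.carrier →ₗ[R] Y.carrier} {p : Y.carrier →ₗ[R] Z.carrier} {d : ℤ}
    (hf : GrLC.IsGrHomDeg X.gr Y.gr f d) (hp : GrLC.IsGrHomDeg Y.gr Z.gr p 0) (hinj : Function.Injective f)
    (hsurj : Function.Surjective p) (hex : Function.Exact f p) (N : ℕ) (g : ℤ)
    (hN : HVan a X (N + 1) (g - d)) (hXf : ∀ i, HP a (FinLen (𝒜 := 𝒜)) X i (g - d))
    (hYf : ∀ i, HP a (FinLen (𝒜 := 𝒜)) Y i g) (hZf : ∀ i, HP a (FinLen (𝒜 := 𝒜)) Z i g) :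
    eulerH a N Y g = eulerH a N X (g - d) + eulerH a N Z g := by
  let EX : GrLC.StarInjRes 𝒜 X.gr := starRes X.gr
  let EY : GrLC.StarInjRes 𝒜 Y.gr := starRes Y.gr
  let EZ : GrLC.StarInjRes 𝒜 Z.gr := starRes Z.gr
  obtain ⟨h0, hi⟩ := exists_les f p hf hp hinj hsurj hex EX EY EZ a
  choose δ hδ e1 e2 e3 using hi
  let R₀ := GrLC.deg0 𝒜
  let u : ∀ i, EX.Hcomp a i (g - d) →ₗ[R₀] EY.Hcomp a i g := fun i =>
    pieceMap EX EY a _ (isGrHomDeg_hmap a hf i) (sub_add_cancel g d)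
  let v : ∀ i, EY.Hcomp a i g →ₗ[R₀] EZ.Hcomp a i g := fun i =>
    pieceMap EY EZ a _ (isGrHomDeg_hmap a hp i) (add_zero g)
  let w : ∀ i, EZ.Hcomp a i g →ₗ[R₀] EX.Hcomp a (i + 1) (g - d) := fun i =>
    pieceMap EZ EX a (δ i) (hδ i) (sub_eq_add_neg g d).symm
  have x1 : ∀ i, Function.Exact (u i) (v i) := fun i y => by
    constructor
    · intro hy
      obtain ⟨z, hz, hze⟩ := exists_preimage_Hgr EX EY a _ (isGrHomDeg_hmap a hf i) y.2
        ((e1 i _).1 (congrArg Subtype.val hy :))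
      exact ⟨⟨z, hz⟩, Subtype.ext hze⟩
    · rintro ⟨z, rfl⟩
      exact Subtype.ext ((e1 i _).2 ⟨z, rfl⟩)
  have x2 : ∀ i, Function.Exact (v i) (w i) := fun i y => by
    constructor
    · intro hy
      obtain ⟨z, hz, hze⟩ := exists_preimage_Hgr EY EZ a _ (isGrHomDeg_hmap a hp i) y.2
        ((e2 i _).1 (congrArg Subtype.val hy :))
      rw [sub_zero] at hz
      exact ⟨⟨z, hz⟩, Subtype.ext hze⟩
    · rintro ⟨z, rfl⟩
      exact Subtype.ext ((e2 i _).2 ⟨z, rfl⟩)
  have x3 : ∀ i, Function.Exact (w i) (u (i + 1)) := fun i y => by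
    constructor
    · intro hy
      obtain ⟨z, hz, hze⟩ := exists_preimage_Hgr EZ EX a (δ i) (hδ i) y.2
        ((e3 i _).1 (congrArg Subtype.val hy :))
      rw [sub_neg_eq_add, sub_add_cancel] at hz
      exact ⟨⟨z, hz⟩, Subtype.ext hze⟩
    · rintro ⟨z, rfl⟩
      exact Subtype.ext ((e3 i _).2 ⟨z, rfl⟩)
  let A : ℕ → ℤ := fun i => lenN (S := R₀) (LinearMap.range (u i))
  let B : ℕ → ℤ := fun i => lenN (S := R₀) (LinearMap.range (v i))
  let C : ℕ → ℤ := fun i => lenN (S := R₀) (LinearMap.range (w i))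
  have hY : ∀ i, (lenH a Y i g : ℤ) = A i + B i := fun i =>
    (congrArg Nat.cast (lenN_of_exact (u i) (v i) (x1 i) (hYf i EY))).trans (Nat.cast_add _ _)
  have hZ : ∀ i, (lenH a Z i g : ℤ) = B i + C i := fun i =>
    (congrArg Nat.cast (lenN_of_exact (v i) (w i) (x2 i) (hZf i EZ))).trans (Nat.cast_add _ _)
  have hX : ∀ i, (lenH a X (i + 1) (g - d) : ℤ) = C i + A (i + 1) := fun i =>
    (congrArg Nat.cast (lenN_of_exact (w i) (u (i + 1)) (x3 i) (hXf (i + 1) EX))).trans (Nat.cast_add _ _)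
  have hX0 : (lenH a X 0 (g - d) : ℤ) = A 0 := by
    have hu0 : Function.Injective (u 0) := fun y z h => Subtype.ext (h0 (congrArg Subtype.val h :))
    exact congrArg Nat.cast (lenN_congr (LinearEquiv.ofInjective (u 0) hu0))
  have tele : ∀ n, eulerH a n Y g - eulerH a n X (g - d) - eulerH a n Z g = -((-1 : ℤ) ^ n * C n) := by
    intro n
    induction n with
    | zero =>
      simp only [eulerH, zero_add, Finset.sum_range_one, pow_zero, one_mul]
      rw [hY, hZ, hX0]; ring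
    | succ n ih =>
      have hs : ∀ W g', eulerH a (n + 1) W g' = eulerH a n W g' + (-1 : ℤ) ^ (n + 1) * (lenH a W (n + 1) g' : ℤ) :=
        fun W g' => Finset.sum_range_succ _ _
      rw [hs, hs, hs, hY, hX, hZ, pow_succ]
      linear_combination ih
  have hC : C N = 0 := by
    haveI : Subsingleton (EX.Hcomp a (N + 1) (g - d)) := Submodule.subsingleton_iff_eq_bot.2 (hN EX)
    exact congrArg Nat.cast (lenN_of_subsingleton _)
  have := tele N
  rw [hC, mul_zero, neg_zero] at this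
  linarith

/-- Additivity of the pieces of modules. -/
theorem lenN_comp_add {X Y Z : GrLC.GMod.{u} 𝒜}
    {f : X.carrier →ₗ[R] Y.carrier} {p : Y.carrier →ₗ[R] Z.carrier} {d : ℤ}
    (hf : GrLC.IsGrHomDeg X.gr Y.gr f d) (hp : GrLC.IsGrHomDeg Y.gr Z.gr p 0) (hinj : Function.Injective f)
    (hsurj : Function.Surjective p) (hex : Function.Exact f p) (g : ℤ)
    (hY : Module.length (GrLC.deg0 𝒜) (GrLC.comp 𝒜 Y.gr g) ≠ ⊤) :
    lenN (S := GrLC.deg0 𝒜) (GrLC.comp 𝒜 Y.gr g) =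
      lenN (S := GrLC.deg0 𝒜) (GrLC.comp 𝒜 X.gr (g - d)) + lenN (S := GrLC.deg0 𝒜) (GrLC.comp 𝒜 Z.gr g) := by
  let u : GrLC.comp 𝒜 X.gr (g - d) →ₗ[GrLC.deg0 𝒜] GrLC.comp 𝒜 Y.gr g :=
    (f.restrictScalars (GrLC.deg0 𝒜)).restrict fun x hx => by
      have := hf (g - d) x hx; rwa [sub_add_cancel] at this
  let v : GrLC.comp 𝒜 Y.gr g →ₗ[GrLC.deg0 𝒜] GrLC.comp 𝒜 Z.gr g :=
    (p.restrictScalars (GrLC.deg0 𝒜)).restrict fun x hx => by
      have := hp g x hx; rwa [add_zero] at this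
  have hu : Function.Injective u := fun x y h => Subtype.ext (hinj (congrArg Subtype.val h :))
  have hv : Function.Surjective v := fun y => by
    obtain ⟨x, hx, hxy⟩ := exists_preimage_mem p hp (show (y : Z.carrier) ∈ Z.gr g from y.2) (hsurj _)
    rw [sub_zero] at hx
    exact ⟨⟨x, hx⟩, Subtype.ext hxy⟩
  have huv : Function.Exact u v := fun y => by
    constructor
    · intro hy
      obtain ⟨x, hx, hxy⟩ := exists_preimage_mem f hf (show (y : Y.carrier) ∈ Y.gr g from y.2)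
        ((hex _).1 (congrArg Subtype.val hy :))
      exact ⟨⟨x, hx⟩, Subtype.ext hxy⟩
    · rintro ⟨x, rfl⟩
      exact Subtype.ext ((hex _).2 ⟨x, rfl⟩)
  rw [lenN_of_exact u v huv hY]
  exact congrArg₂ (· + ·) (lenN_congr (LinearEquiv.ofInjective u hu)).symm
    (lenN_congr ((LinearEquiv.ofTop _ (LinearMap.range_eq_top.2 hv))))

/-- Cohomology of a torsion module. -/
theorem eulerH_torsion (N : ℕ) (T : GrLC.GMod.{u} 𝒜) (hT : LocCoh.IsPowerTorsion a.toIdeal T.carrier) (g : ℤ) :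
    eulerH a N T g = lenN (S := GrLC.deg0 𝒜) (GrLC.comp 𝒜 T.gr g) := by
  have h0 : lenH a T 0 g = lenN (S := GrLC.deg0 𝒜) (GrLC.comp 𝒜 T.gr g) := by
    let E : GrLC.StarInjRes 𝒜 T.gr := starRes T.gr
    obtain ⟨ε, hε⟩ := exists_H0_equiv E a
    let v : GrLC.comp 𝒜 T.gr g →ₗ[GrLC.deg0 𝒜] E.Hcomp a 0 g :=
      { toFun := fun m => ⟨ε ⟨m.1, hT m.1⟩, (hε g ⟨m.1, hT m.1⟩).1 m.2⟩
        map_add' := fun m m' => Subtype.ext (map_add ε ⟨m.1, hT m.1⟩ ⟨m'.1, hT m'.1⟩)
        map_smul' := fun c m => Subtype.ext (map_smul ε (c : R) ⟨m.1, hT m.1⟩) }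
    refine (lenN_congr (LinearEquiv.ofBijective v ⟨fun m m' h => ?_, fun y => ?_⟩)).symm
    · exact Subtype.ext (congrArg (Subtype.val) (ε.injective (congrArg Subtype.val h :)) :)
    · obtain ⟨m, hm⟩ := ε.surjective y.1
      exact ⟨⟨m.1, (hε g m).2 (hm.symm ▸ y.2)⟩, Subtype.ext hm⟩
  rw [eulerH, Finset.sum_range_succ', Finset.sum_eq_zero, zero_add, pow_zero, one_mul, h0]
  intro i _
  rw [lenH_eq_zero (hVan_of_torsion hT i g), Nat.cast_zero, mul_zero]

/-- An irrelevant-torsion module is torsion. -/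
theorem gam_irrel_le (X : Type u) [AddCommGroup X] [Module R X] :
    GrLC.gam (GrSyz.irrel 𝒜).toIdeal X ≤ GrLC.gam a.toIdeal X := by
  rintro m ⟨n, hn⟩
  obtain ⟨l, hl⟩ := hak
  exact ⟨l * n, fun r hr => hn r (Ideal.pow_right_mono hl n (pow_mul a.toIdeal l n ▸ hr))⟩

theorem eq_zero_of_eventually_zero (P : Polynomial ℚ) (c : ℤ) (h : ∀ g : ℤ, c < g → P.eval (g : ℚ) = 0) : P = 0 :=
  Polynomial.eq_zero_of_infinite_isRoot P (Set.infinite_of_injective_forall_mem
    (f := fun n : ℕ => ((c + 1 + n : ℤ) : ℚ)) (fun m n hmn => by simpa using hmn) fun n => h _ (by omega))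

/-- The formula, by Noetherian induction. -/
theorem formula (N : ℕ) (hN : ∀ (X : GrLC.GMod.{u} 𝒜) (i : ℕ) (g : ℤ), N < i → HVan a X i g)
    (X : GrLC.GMod.{u} 𝒜) [Module.Finite R X.carrier] (hX : Good X) (P : Polynomial ℚ)
    (hP : ∃ c : ℤ, ∀ g, c < g → P.eval (g : ℚ) = (lenN (S := GrLC.deg0 𝒜) (GrLC.comp 𝒜 X.gr g) : ℚ)) (g : ℤ) :
    (lenN (S := GrLC.deg0 𝒜) (GrLC.comp 𝒜 X.gr g) : ℚ) - (eulerH a N X g : ℚ) = P.eval (g : ℚ) := by
  classical
  suffices key : ∀ (K : Submodule R X.carrier) (Z : GrLC.GMod.{u} 𝒜) [Module.Finite R Z.carrier]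
      (π : X.carrier →ₗ[R] Z.carrier), Function.Surjective π → LinearMap.ker π = K → Good Z → ∀ P : Polynomial ℚ,
      (∃ c : ℤ, ∀ g, c < g → P.eval (g : ℚ) = (lenN (S := GrLC.deg0 𝒜) (GrLC.comp 𝒜 Z.gr g) : ℚ)) →
      ∀ g : ℤ, (lenN (S := GrLC.deg0 𝒜) (GrLC.comp 𝒜 Z.gr g) : ℚ) - (eulerH a N Z g : ℚ) = P.eval (g : ℚ) from
    key _ X LinearMap.id Function.surjective_id rfl hX P hP g
  intro K
  induction K using WellFoundedGT.induction with
  | _ K ih => ?_
  intro Z _ π hπ hK hgZ P hP g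
  have child : ∀ (Z' : GrLC.GMod.{u} 𝒜) [Module.Finite R Z'.carrier] (p : Z.carrier →ₗ[R] Z'.carrier),
      Function.Surjective p → LinearMap.ker p ≠ ⊥ → Good Z' → ∀ P : Polynomial ℚ,
      (∃ c : ℤ, ∀ g, c < g → P.eval (g : ℚ) = (lenN (S := GrLC.deg0 𝒜) (GrLC.comp 𝒜 Z'.gr g) : ℚ)) →
      ∀ g : ℤ, (lenN (S := GrLC.deg0 𝒜) (GrLC.comp 𝒜 Z'.gr g) : ℚ) - (eulerH a N Z' g : ℚ) = P.eval (g : ℚ) := by
    intro Z' _ p hp hne hg'
    refine ih (LinearMap.ker (p ∘ₗ π)) ?_ Z' (p ∘ₗ π) (hp.comp hπ) rfl hg'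
    refine lt_of_le_of_ne (hK ▸ LinearMap.ker_le_ker_comp π p) fun he => hne ((Submodule.eq_bot_iff _).2 fun z hz => ?_)
    obtain ⟨w, rfl⟩ := hπ z
    have : w ∈ LinearMap.ker π := by rw [hK, he]; exact hz
    exact this
  obtain ⟨T, Q, j, p, _, _, hT, hQ, hj, hp, hji, hps, hjp, -⟩ := exists_tors_seq a Z
  have hgQ : Good Q := good_of_surjective p hp hps hgZ
  have hgT : Good T := good_of_injective j hj hji hgZ
  have hfin : ∀ (W : GrLC.GMod.{u} 𝒜) [Module.Finite R W.carrier], Good W → ∀ g i, HP a (FinLen (𝒜 := 𝒜)) W i g :=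
    fun W _ hW g i => finLen_piece hpos ha hak i W hW g
  have hvN : ∀ (W : GrLC.GMod.{u} 𝒜) g, HVan a W (N + 1) g := fun W g => hN W _ g (by omega)
  have htors : ∀ g, (lenN (S := GrLC.deg0 𝒜) (GrLC.comp 𝒜 Z.gr g) : ℚ) - (eulerH a N Z g : ℚ) =
      (lenN (S := GrLC.deg0 𝒜) (GrLC.comp 𝒜 Q.gr g) : ℚ) - (eulerH a N Q g : ℚ) := fun g => by
    rw [lenN_comp_add hpos ha hak hj hp hji hps hjp g (hgZ g), eulerH_add hpos ha hak hj hp hji hps hjp N g (hvN T _)
      (hfin T hgT _) (hfin Z hgZ _) (hfin Q hgQ _),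
      sub_zero, eulerH_torsion hpos ha hak N T hT g]
    push_cast; ring
  obtain ⟨cT, hcT⟩ := exists_bounded_of_torsion (M := T.carrier) 𝒜 hpos T.gr fun t => by
    obtain ⟨n, hn⟩ := hT t
    exact ⟨n, fun r hr => hn r (Ideal.pow_right_mono ha n hr)⟩
  by_cases hker : LinearMap.ker p = ⊥
  swap
  · rw [htors]
    obtain ⟨c, hc⟩ := hP
    refine child Q p hps hker hgQ P ⟨max c cT, fun g hg => ?_⟩ g
    rw [hc g (by omega), lenN_comp_add hpos ha hak hj hp hji hps hjp g (hgZ g), sub_zero]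
    haveI : Subsingleton (GrLC.comp 𝒜 T.gr g) :=
      subsingleton_of_forall_eq 0 fun t => Subtype.ext (hcT g (by omega) t.1 t.2)
    rw [lenN_of_subsingleton, zero_add]
  -- torsion free
  have hZ : GrLC.gam a.toIdeal Z.carrier = ⊥ := (Submodule.eq_bot_iff _).2 fun z hz => by
    have hp0 : p z = 0 := by
      rw [← Submodule.mem_bot R, ← hQ]
      obtain ⟨n, hn⟩ := hz
      exact ⟨n, fun r hr => by rw [← map_smul, hn r hr, map_zero]⟩
    exact (Submodule.eq_bot_iff _).1 hker z hp0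
  rcases subsingleton_or_nontrivial Z.carrier with hsub | hnt
  · haveI : ∀ g, Subsingleton (GrLC.comp 𝒜 Z.gr g) := fun g => ⟨fun x y => Subtype.ext (Subsingleton.elim _ _)⟩
    obtain ⟨c, hc⟩ := hP
    have hP0 : P = 0 := eq_zero_of_eventually_zero hpos ha hak P c fun g hg => by
      rw [hc g hg, lenN_of_subsingleton, Nat.cast_zero]
    have he0 : eulerH a N Z g = 0 := Finset.sum_eq_zero fun i _ => by
      rw [lenH_eq_zero (hVan_of_subsingleton i g), Nat.cast_zero, mul_zero]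
    rw [hP0, Polynomial.eval_zero, lenN_of_subsingleton, he0]
    simp
  obtain ⟨e, he, x, hx, hxi, hreg⟩ := exists_regular_pos 𝒜 hpos (M := Z.carrier)
    (le_bot_iff.1 ((gam_irrel_le hpos ha hak Z.carrier).trans hZ.le))
  obtain ⟨Y, q, _, hμ, hqg, hinj, hq, hex, -⟩ := exists_regular_seq hx hreg
  have hne : LinearMap.ker q ≠ ⊥ := by
    rw [LinearMap.exact_iff.1 hex]
    intro h0
    obtain ⟨z, hz⟩ := exists_ne (0 : Z.carrier)
    refine hz (hinj ?_)
    rw [map_zero]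
    exact (Submodule.eq_bot_iff _).1 h0 _ ⟨z, rfl⟩
  obtain ⟨c, hc⟩ := hP
  have hgY : Good Y := good_of_surjective q hqg hq hgZ
  have hY := child Y q hq hne hgY (P - P.comp (Polynomial.X - Polynomial.C (e : ℚ))) ⟨c + e, fun g hg => by
    have h1 := lenN_comp_add hpos ha hak hμ hqg hinj hq hex g (hgZ g)
    have h2 := hc g (by omega)
    have h3 := hc (g - e) (by omega)
    rw [Polynomial.eval_sub, Polynomial.eval_comp, Polynomial.eval_sub, Polynomial.eval_X, Polynomial.eval_C,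
      ← Int.cast_sub, h2, h3, h1, Nat.cast_add]
    ring⟩
  let G : ℤ → ℚ := fun g =>
    (lenN (S := GrLC.deg0 𝒜) (GrLC.comp 𝒜 Z.gr g) : ℚ) - (eulerH a N Z g : ℚ) - P.eval (g : ℚ)
  have hper : ∀ g, G g = G (g - e) := fun g => by
    have h1 := lenN_comp_add hpos ha hak hμ hqg hinj hq hex g (hgZ g)
    have h2 := eulerH_add hpos ha hak hμ hqg hinj hq hex N g (hvN Z _)
      (hfin Z hgZ _) (hfin Z hgZ _) (hfin Y hgY _)
    have h3 := hY g
    rw [Polynomial.eval_sub, Polynomial.eval_comp, Polynomial.eval_sub, Polynomial.eval_X, Polynomial.eval_C,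
      ← Int.cast_sub] at h3
    simp only [G, h1, h2]
    push_cast
    push_cast at h3
    linarith
  choose b hb using fun i => exists_hVan hpos ha i Z
  have hev : ∀ g, c + ∑ i ∈ Finset.range (N + 1), |b i| + |c| < g → G g = 0 := fun g hg => by
    have hnn : 0 ≤ ∑ i ∈ Finset.range (N + 1), |b i| := Finset.sum_nonneg fun i _ => abs_nonneg _
    have hcabs := abs_nonneg c
    have hcneg := neg_abs_le c
    have he0 : eulerH a N Z g = 0 := Finset.sum_eq_zero fun i hi => by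
      have := Finset.single_le_sum (f := fun i => |b i|) (fun i _ => abs_nonneg _) hi
      have := le_abs_self (b i)
      rw [lenH_eq_zero (hb i g (by omega)), Nat.cast_zero, mul_zero]
    simp only [G, he0, hc g (by omega)]
    simp
  have hall : ∀ (k : ℕ) (g : ℤ), c + ∑ i ∈ Finset.range (N + 1), |b i| + |c| - g < k → G g = 0 := by
    intro k
    induction k with
    | zero => exact fun g hg => hev g (by omega)
    | succ k ih =>
      intro g hg
      have := hper (g + e)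
      rw [add_sub_cancel_right] at this
      rw [← this]
      exact ih (g + e) (by omega)
  have := hall ((c + ∑ i ∈ Finset.range (N + 1), |b i| + |c| - g + 1).toNat) g (by omega)
  simp only [G, sub_eq_zero] at this
  exact this

end Groth.Agent.H1SerreFin
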